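import Groth.Agent.Ega4dB.FiberStalk
import Groth.Agent.EtpbcB.StrictHensTransport
import Groth.Agent.Flat2G.StrictHens
import Groth.Agent.S0541
import Groth.Agent.S2135

/-!
# The closed fibre of the strict henselization

`R` a strict henselization of the local ring `O`, `I ⊆ m_O` an ideal: `R / I R` is a strict henselization of `O / I`.
-/

set_option autoImplicit false
universe u

open IsLocalRing TensorProduct

namespace Groth.Agent.Sga2lef.H99.ClosedFib

/-- Quotients of henselian local rings are henselian. -/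
theorem henselianLocalRing_quotient (R : Type u) [CommRing R] [HenselianLocalRing R] (J : Ideal R)
    (hJ : J ≠ ⊤) : HenselianLocalRing (R ⧸ J) := by
  have hnt : Nontrivial (R ⧸ J) := Ideal.Quotient.nontrivial_iff.mpr hJ
  have hloc : IsLocalRing (R ⧸ J) :=
    IsLocalRing.of_surjective' (Ideal.Quotient.mk J) Ideal.Quotient.mk_surjective
  have hlh : IsLocalHom (Ideal.Quotient.mk J) := Ideal.Quotient.mk_surjective.isLocalHom _
  refine ⟨?_⟩
  intro f hf a₀ h1 h2
  obtain ⟨F, hF, -, hFm⟩ := Polynomial.lifts_and_degree_eq_and_monic (f := Ideal.Quotient.mk J)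
    (by
      rw [Polynomial.mem_lifts]
      exact Polynomial.map_surjective _ Ideal.Quotient.mk_surjective f) hf
  obtain ⟨b, rfl⟩ := Ideal.Quotient.mk_surjective a₀
  rw [← hF, Polynomial.eval_map_apply] at h1
  rw [← hF, Polynomial.derivative_map, Polynomial.eval_map_apply] at h2
  obtain ⟨a, ha, ha'⟩ := HenselianLocalRing.is_henselian F hFm b
    ((mem_maximalIdeal _).mpr fun hu => (mem_maximalIdeal _).mp h1 (hu.map _))
    (isUnit_of_map_unit (Ideal.Quotient.mk J) _ h2)
  refine ⟨Ideal.Quotient.mk J a, ?_, ?_⟩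
  · rw [← hF]
    exact Polynomial.IsRoot.map ha
  · rw [← map_sub]
    exact (mem_maximalIdeal _).mpr fun hu =>
      (mem_maximalIdeal _).mp ha' (isUnit_of_map_unit (Ideal.Quotient.mk J) _ hu)

/-- Base change of strict henselizations to quotients (through any presentation of the quotients). -/
theorem isStrictHenselization_quotient (O R : Type u) [CommRing O] [IsLocalRing O] [CommRing R] [IsLocalRing R]
    [Algebra O R] [IsLocalHom (algebraMap O R)] [hR : Hensel.IsStrictHenselization O R] (I : Ideal O)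
    (hI : I ≤ maximalIdeal O) [IsLocalRing (O ⧸ I)] [IsLocalRing (R ⧸ I.map (algebraMap O R))] :
    ∃ _ : IsLocalHom (algebraMap (O ⧸ I) (R ⧸ I.map (algebraMap O R))),
      Hensel.IsStrictHenselization (O ⧸ I) (R ⧸ I.map (algebraMap O R)) := by
  have hRh := hR.henselian
  have hRs := hR.isSepClosure.sep_closed
  let J := I.map (algebraMap O R)
  have hJ : J ≠ ⊤ := by
    intro h
    have h1 : J ≤ maximalIdeal R := by
      rw [Ideal.map_le_iff_le_comap]
      rw [IsLocalRing.maximalIdeal_comap]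
      exact hI
    rw [h, top_le_iff] at h1
    exact (maximalIdeal.isMaximal R).ne_top h1
  have h1 : HenselianLocalRing (R ⧸ J) := henselianLocalRing_quotient R J hJ
  have hlh : IsLocalHom (Ideal.Quotient.mk J) := Ideal.Quotient.mk_surjective.isLocalHom _
  have hlhO : IsLocalHom (Ideal.Quotient.mk I) := Ideal.Quotient.mk_surjective.isLocalHom _
  have h2 : IsSepClosed (ResidueField (R ⧸ J)) := by
    let e : ResidueField R →+* ResidueField (R ⧸ J) := ResidueField.map (Ideal.Quotient.mk J)
    have he : Function.Bijective e := by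
      refine ⟨e.injective, fun x => ?_⟩
      obtain ⟨y, rfl⟩ := residue_surjective x
      obtain ⟨z, rfl⟩ := Ideal.Quotient.mk_surjective y
      exact ⟨residue R z, rfl⟩
    exact Groth.Agent.Hensel.Exist.isSepClosed_of_ringEquiv (RingEquiv.ofBijective e he).symm
  have hl : IsLocalHom (algebraMap (O ⧸ I) (R ⧸ J)) := by
    constructor
    intro a ha
    obtain ⟨b, rfl⟩ := Ideal.Quotient.mk_surjective a
    have h3 : algebraMap (O ⧸ I) (R ⧸ J) (Ideal.Quotient.mk I b) = Ideal.Quotient.mk J (algebraMap O R b) := rfl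
    rw [h3] at ha
    have h4 := isUnit_of_map_unit (algebraMap O R) b (isUnit_of_map_unit (Ideal.Quotient.mk J) _ ha)
    exact h4.map _
  refine ⟨hl, ?_⟩
  have hwe : Algebra.WeaklyEtale O R := Flat2G.StrictHens.weaklyEtale_of_isStrictHenselization O R
  have hwe2 : Algebra.WeaklyEtale (O ⧸ I) ((O ⧸ I) ⊗[O] R) := inferInstance
  let e : (R ⧸ J) ≃ₐ[O ⧸ I] ((O ⧸ I) ⊗[O] R) := Algebra.TensorProduct.quotIdealMapEquivQuotTensor R I
  have hwe3 : Algebra.WeaklyEtale (O ⧸ I) (R ⧸ J) := by
    rw [Groth.Agent.Etalg.SepElt.weaklyEtale_iff] at hwe2 ⊢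
    have hfl := hwe2.1
    refine ⟨Module.Flat.of_linearEquiv e.toLinearEquiv, ?_⟩
    rw [eq_top_iff]
    intro s _
    obtain ⟨t, rfl⟩ := e.symm.surjective s
    refine Groth.Agent.Etalg.SepElt.map_mem_sepElt e.symm.toAlgHom ?_
    rw [hwe2.2]
    exact Algebra.mem_top
  have hself : IsLocalHom (algebraMap (R ⧸ J) (R ⧸ J)) := ⟨fun _ h => h⟩
  have hs : Hensel.IsStrictHenselization (R ⧸ J) (R ⧸ J) := EtpbcB.StrictHensTransport.self (R ⧸ J)
  exact Flat2G.StrictHens.isStrictHenselization_of_weaklyEtale (O ⧸ I) (R ⧸ J) (R ⧸ J)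

end Groth.Agent.Sga2lef.H99.ClosedFib
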